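import Mathlib

/-!
Semilocal Prüfer domains of finite dimension have finite spectrum.
-/

namespace Groth.Agent.ValPrufer

universe u

variable {R : Type u} [CommRing R] [IsDomain R]

/-- Primes below a prime of a Prüfer domain form a chain. -/
theorem le_total_of_le (hR : ∀ (p : Ideal R) [p.IsPrime], ValuationRing (Localization.AtPrime p))
    {P Q M : Ideal R} [P.IsPrime] [Q.IsPrime] [M.IsPrime] (hP : P ≤ M) (hQ : Q ≤ M) :
    P ≤ Q ∨ Q ≤ P := by
  have hd : ∀ I : Ideal R, I.IsPrime → I ≤ M →
      (I.map (algebraMap R (Localization.AtPrime M))).comap (algebraMap R (Localization.AtPrime M)) = I :=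
    fun I hI hle => IsLocalization.comap_map_of_isPrime_disjoint M.primeCompl _ hI
      (Set.disjoint_left.2 fun x hx hx' => hx (hle hx'))
  have ht := (ValuationRing.iff_ideal_total.1 (hR M)).total
    (P.map (algebraMap R (Localization.AtPrime M))) (Q.map (algebraMap R (Localization.AtPrime M)))
  rw [← hd P ‹_› hP, ← hd Q ‹_› hQ]
  exact ht.imp Ideal.comap_mono Ideal.comap_mono

/-- A semilocal Prüfer domain of finite dimension has finite spectrum. -/
theorem finite_primeSpectrum
    (hR : ∀ (p : Ideal R) [p.IsPrime], ValuationRing (Localization.AtPrime p))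
    (hfin : Finite (MaximalSpectrum R)) (hdim : ringKrullDim R < ⊤) :
    Finite (PrimeSpectrum R) := by
  obtain ⟨n, hn⟩ : ∃ n : ℕ, ringKrullDim R ≤ n := by
    by_contra! h
    have hne : ringKrullDim R ≠ ⊥ := (ringKrullDim_nonneg_of_nontrivial (R := R)).trans_lt' (WithBot.bot_lt_coe _) |>.ne'
    obtain ⟨a, ha⟩ := WithBot.ne_bot_iff_exists.1 hne
    rw [← ha] at hdim h
    obtain ⟨k, rfl⟩ := ENat.ne_top_iff_exists.1 (WithBot.coe_lt_coe.1 hdim).ne
    exact lt_irrefl _ (h k)
  have hsingle : ∀ m : MaximalSpectrum R, {p : PrimeSpectrum R | p.asIdeal ≤ m.asIdeal}.Finite := by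
    intro m
    have hht : ∀ p : PrimeSpectrum R, Order.height p ≤ n := fun p => by
      have := (Order.height_le_krullDim p).trans hn
      exact WithBot.coe_le_coe.1 (by exact_mod_cast this)
    refine Set.Finite.of_finite_image (f := fun p => Order.height p) ?_ ?_
    · refine ((Set.finite_Iic n).image (Nat.cast : ℕ → ℕ∞)).subset ?_
      rintro _ ⟨p, -, rfl⟩
      obtain ⟨k, hk⟩ := ENat.ne_top_iff_exists.1 ((hht p).trans_lt (ENat.coe_lt_top _)).ne
      exact ⟨k, Nat.cast_le (α := ℕ∞).1 (hk ▸ hht p), hk⟩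
    · intro p hp q hq h
      by_contra hne
      have hm := m.isMaximal.isPrime
      rcases le_total_of_le hR (P := p.asIdeal) (Q := q.asIdeal) hp hq with hle | hle
      · exact (Order.height_strictMono (lt_of_le_of_ne (show p ≤ q from hle) hne)
          ((hht p).trans_lt (ENat.coe_lt_top _))).ne h
      · exact (Order.height_strictMono (lt_of_le_of_ne (show q ≤ p from hle) (Ne.symm hne))
          ((hht q).trans_lt (ENat.coe_lt_top _))).ne h.symm
  have : (Set.univ : Set (PrimeSpectrum R)).Finite := by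
    refine (Set.finite_iUnion hsingle).subset fun p _ => ?_
    obtain ⟨m, hm, hle⟩ := p.asIdeal.exists_le_maximal p.isPrime.ne_top
    exact Set.mem_iUnion.2 ⟨⟨m, hm⟩, hle⟩
  exact Set.finite_univ_iff.1 this

end Groth.Agent.ValPrufer
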