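import Groth.Agent.DimFormula.Trdeg
import Groth.Agent.FibDim.Semicont
import Groth.Agent.FibDim.BaseChange
import Groth.Agent.ValPrufer.Basic
import Mathlib

/-!
The dimension function on spectra of finite type algebras over Prüfer domains.
-/

open AlgebraicGeometry CategoryTheory Order

namespace Groth.Agent.ValPrufer.DimFun

open Groth.Agent

universe u

variable {R S : Type u} [CommRing R] [CommRing S] [Algebra R S] [Algebra.FiniteType R S]

/-- The structure morphism. -/
noncomputable abbrev str (R S : Type u) [CommRing R] [CommRing S] [Algebra R S] :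
    Spec (CommRingCat.of S) ⟶ Spec (CommRingCat.of R) :=
  Spec.map (CommRingCat.ofHom (algebraMap R S))

instance : LocallyOfFiniteType (str R S) :=
  HasRingHomProperty.Spec_iff.mpr (RingHom.finiteType_algebraMap.mpr ‹Algebra.FiniteType R S›)

theorem rd_eq_fd (P : PrimeSpectrum S) :
    FibDim.rd (str R S) (P : Spec (CommRingCat.of S)) = DimFormula.fd R P.asIdeal := by
  refine eq_of_forall_le_iff fun n => ?_
  rw [DimFormula.le_fd_iff]
  exact FibDim.le_rd_iff' (str R S) (A := R) (C := S) (𝟙 _) (𝟙 _) (by simp [str]) P n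

/-- Within a fibre the dimension function is strictly decreasing. -/
theorem fd_lt {P Q : PrimeSpectrum S} (h : P < Q) (hu : P.asIdeal.under R = Q.asIdeal.under R) :
    DimFormula.fd R Q.asIdeal < DimFormula.fd R P.asIdeal := by
  rw [← rd_eq_fd, ← rd_eq_fd]
  exact FibDim.rd_lt (str R S) ((PrimeSpectrum.le_iff_specializes P Q).1 h.le) h.ne (PrimeSpectrum.ext hu)

/-- Within a fibre a covering drops the dimension function by one. -/
theorem fd_covBy {P Q : PrimeSpectrum S} (h : P ⋖ Q) (hu : P.asIdeal.under R = Q.asIdeal.under R) :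
    DimFormula.fd R P.asIdeal = DimFormula.fd R Q.asIdeal + 1 := by
  rw [← rd_eq_fd, ← rd_eq_fd]
  let f := str R S
  let x : Spec (CommRingCat.of S) := P
  let x' : Spec (CommRingCat.of S) := Q
  have he : f x = f x' := PrimeSpectrum.ext hu
  obtain ⟨z, hz⟩ : x ∈ Set.range (f.fiberι (f x')) := by rw [Scheme.Hom.range_fiberι]; exact he
  have hemb := (f.fiberι (f x')).isEmbedding
  have hsp : z ⤳ f.asFiber x' := by
    rw [← hemb.isInducing.specializes_iff, Scheme.Hom.fiberι_asFiber, hz]
    exact (PrimeSpectrum.le_iff_specializes P Q).1 h.lt.le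
  have hne : z ≠ f.asFiber x' := fun e => h.lt.ne (by
    show x = x'
    rw [← hz, e, Scheme.Hom.fiberι_asFiber])
  have := VarDim.deg_of_immediate (k := (Spec (CommRingCat.of R)).residueField (f x'))
    (f.fiberToSpecResidueField (f x')) hne hsp (fun y h1 h2 => by
      have h1' := h1.map (f.fiberι (f x')).continuous
      have h2' := h2.map (f.fiberι (f x')).continuous
      rw [hz] at h1'
      rw [Scheme.Hom.fiberι_asFiber] at h2'
      let y' : PrimeSpectrum S := f.fiberι (f x') y
      have l1 : P ≤ y' := (PrimeSpectrum.le_iff_specializes P y').2 h1'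
      have l2 : y' ≤ Q := (PrimeSpectrum.le_iff_specializes y' Q).2 h2'
      rcases l1.eq_or_lt with e | hlt
      · exact Or.inl (hemb.injective ((show f.fiberι (f x') y = x from e.symm).trans hz.symm))
      · refine Or.inr (hemb.injective ?_)
        rw [Scheme.Hom.fiberι_asFiber]
        exact l2.eq_or_lt.resolve_right (h.2 hlt))
  rwa [FibDim.deg_fiber, FibDim.deg_fiber, hz, Scheme.Hom.fiberι_asFiber] at this

/-- Between two primes there is a prime over the upper contraction of large dimension. -/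
theorem exists_fd_ge {P Q : PrimeSpectrum S} (h : P ≤ Q) :
    ∃ z : PrimeSpectrum S, P ≤ z ∧ z ≤ Q ∧ z.asIdeal.under R = Q.asIdeal.under R ∧
      DimFormula.fd R P.asIdeal ≤ DimFormula.fd R z.asIdeal := by
  obtain ⟨z, h1, h2, h3, h4⟩ := FibDim.exists_rd_ge (str R S)
    (η := (P : Spec (CommRingCat.of S))) (x := (Q : Spec (CommRingCat.of S)))
    ((PrimeSpectrum.le_iff_specializes P Q).1 h)
  refine ⟨z, (PrimeSpectrum.le_iff_specializes _ _).2 h1, (PrimeSpectrum.le_iff_specializes _ _).2 h2,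
    congrArg PrimeSpectrum.asIdeal h3, ?_⟩
  rw [← rd_eq_fd, ← rd_eq_fd]
  exact h4

section Prufer

variable [IsDomain R] (hR : ∀ (p : Ideal R) [p.IsPrime], ValuationRing (Localization.AtPrime p))

include hR in
omit [Algebra R S] [CommRing S] [Algebra.FiniteType R S] in
theorem exists_dvd_total (q : Ideal R) [q.IsPrime] (a b : R) :
    (∃ s r : R, s ∉ q ∧ s * a = r * b) ∨ (∃ s r : R, s ∉ q ∧ s * b = r * a) := by
  haveI := hR q
  let L := Localization.AtPrime q
  have key : ∀ a b : R, algebraMap R L a ∣ algebraMap R L b → ∃ s r : R, s ∉ q ∧ s * b = r * a := by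
    rintro a b ⟨c, hc⟩
    obtain ⟨⟨r, s⟩, hrs⟩ := IsLocalization.surj q.primeCompl c
    refine ⟨s, r, s.2, IsLocalization.injective L q.primeCompl_le_nonZeroDivisors ?_⟩
    rw [map_mul, map_mul, hc, ← hrs]
    ring
  rcases ValuationRing.dvd_total (algebraMap R L a) (algebraMap R L b) with h | h
  · exact Or.inr (key a b h)
  · exact Or.inl (key b a h)

include hR in
omit [Algebra R S] [CommRing S] [Algebra.FiniteType R S] in
theorem exists_dominant (q : Ideal R) [q.IsPrime] {ι : Type*} (s : Finset ι) (hs : s.Nonempty) (c : ι → R) :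
    ∃ d ∈ s, ∀ e ∈ s, ∃ u r : R, u ∉ q ∧ u * c e = r * c d := by
  have h1 : (1 : R) ∉ q := fun h => (inferInstance : q.IsPrime).ne_top ((Ideal.eq_top_iff_one _).2 h)
  induction hs using Finset.Nonempty.cons_induction with
  | singleton a => exact ⟨a, Finset.mem_singleton_self a, fun e he => ⟨1, 1, h1, by rw [Finset.mem_singleton.1 he]⟩⟩
  | cons a s ha hs ih =>
    obtain ⟨d, hd, hdiv⟩ := ih
    rcases exists_dvd_total hR q (c a) (c d) with ⟨u, r, hu, he⟩ | ⟨u, r, hu, he⟩
    · exact ⟨d, Finset.mem_cons.2 (Or.inr hd), fun e h => by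
        rcases Finset.mem_cons.1 h with rfl | h
        · exact ⟨u, r, hu, he⟩
        · exact hdiv e h⟩
    · refine ⟨a, Finset.mem_cons_self a s, fun e h => ?_⟩
      rcases Finset.mem_cons.1 h with rfl | h
      · exact ⟨1, 1, h1, rfl⟩
      · obtain ⟨u', r', hu', he'⟩ := hdiv e h
        refine ⟨u * u', r' * r, fun hm => ((inferInstance : q.IsPrime).mem_or_mem hm).elim hu hu', ?_⟩
        linear_combination u * he' + r' * he

include hR in
/-- Independence modulo a prime passes to smaller primes. -/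
theorem indepMod_mono {P Q : Ideal S} [P.IsPrime] [Q.IsPrime] (h : P ≤ Q) {n : ℕ} {t : Fin n → S}
    (ht : FibDim.IndepMod (A := R) t Q) : FibDim.IndepMod (A := R) t P := by
  classical
  intro G hG
  rw [MvPolynomial.mem_map_C_iff]
  by_contra hcon
  push Not at hcon
  obtain ⟨d₀, hd₀⟩ := hcon
  let q := Q.under R
  haveI : q.IsPrime := Ideal.IsPrime.under R Q
  have hd₀s : d₀ ∈ G.support := MvPolynomial.mem_support_iff.2 fun h0 => hd₀ (by rw [h0]; exact zero_mem _)
  obtain ⟨d, hd, hdiv⟩ := exists_dominant hR q G.support ⟨d₀, hd₀s⟩ G.coeff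
  choose u r hu hur using hdiv
  have hcd : G.coeff d ∉ P.under R := fun hm => by
    have h1 : u d₀ hd₀s * G.coeff d₀ ∈ P.under R := by
      rw [hur]; exact Ideal.mul_mem_left _ _ hm
    rcases (Ideal.IsPrime.under R P).mem_or_mem h1 with h2 | h2
    · exact hu _ hd₀s (Ideal.comap_mono h h2)
    · exact hd₀ h2
  let U := ∏ e ∈ G.support.attach, u e.1 e.2
  let G' : MvPolynomial (Fin n) R :=
    ∑ e ∈ G.support.attach, MvPolynomial.monomial e.1 ((∏ e' ∈ G.support.attach.erase e, u e'.1 e'.2) * r e.1 e.2)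
  have hG' : MvPolynomial.C U * G = MvPolynomial.C (G.coeff d) * G' := by
    conv_lhs => rw [G.as_sum, ← Finset.sum_attach]
    rw [Finset.mul_sum, Finset.mul_sum]
    refine Finset.sum_congr rfl fun e he => ?_
    rw [MvPolynomial.C_mul_monomial, MvPolynomial.C_mul_monomial]
    congr 1
    simp only [U]
    rw [← Finset.mul_prod_erase _ _ he]
    linear_combination (∏ e' ∈ G.support.attach.erase e, u e'.1 e'.2) * hur e.1 e.2
  have h1 : MvPolynomial.aeval t G' ∈ P := by
    have h2 : MvPolynomial.aeval t (MvPolynomial.C (G.coeff d) * G') ∈ P := by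
      rw [← hG', map_mul]; exact Ideal.mul_mem_left _ _ hG
    rw [map_mul, MvPolynomial.aeval_C] at h2
    exact ((inferInstance : P.IsPrime).mem_or_mem h2).resolve_left hcd
  have h2 := MvPolynomial.mem_map_C_iff.1 (ht G' (h h1)) d
  have h3 : G.coeff d * G'.coeff d = G.coeff d * U := by
    have := congrArg (MvPolynomial.coeff d) hG'
    rw [MvPolynomial.coeff_C_mul, MvPolynomial.coeff_C_mul] at this
    rw [← this, mul_comm]
  have hne : G.coeff d ≠ 0 := MvPolynomial.mem_support_iff.1 hd
  rw [mul_left_cancel₀ hne h3] at h2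
  obtain ⟨e, -, he⟩ := (Ideal.IsPrime.prod_mem_iff (p := q)).1 h2
  exact hu _ e.2 he

include hR in
/-- The dimension function does not increase. -/
theorem fd_le {P Q : PrimeSpectrum S} (h : P ≤ Q) : DimFormula.fd R Q.asIdeal ≤ DimFormula.fd R P.asIdeal := by
  obtain ⟨t, ht⟩ := (DimFormula.le_fd_iff R Q.asIdeal _).1 le_rfl
  exact (DimFormula.le_fd_iff R P.asIdeal _).2 ⟨t, indepMod_mono hR h ht⟩

include hR in
/-- Primes in between, over any intermediate prime of the base. -/
theorem exists_between {P Q : PrimeSpectrum S} (h : P ≤ Q) (p' : Ideal R) [p'.IsPrime]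
    (h1 : P.asIdeal.under R ≤ p') (h2 : p' ≤ Q.asIdeal.under R) :
    ∃ z : PrimeSpectrum S, P ≤ z ∧ z ≤ Q ∧ z.asIdeal.under R = p' := by
  haveI := P.isPrime
  haveI := Q.isPrime
  rcases h1.eq_or_lt with e | hlt
  · exact ⟨P, le_rfl, h, e⟩
  obtain ⟨c, hc, hcP⟩ := SetLike.exists_of_lt hlt
  let q := Q.asIdeal.under R
  haveI : q.IsPrime := Ideal.IsPrime.under R Q.asIdeal
  let M : Submonoid S := (p'.primeCompl.map (algebraMap R S)) ⊔ Q.asIdeal.primeCompl
  let I : Ideal S := P.asIdeal ⊔ p'.map (algebraMap R S)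
  have hdisj : Disjoint (I : Set S) (M : Set S) := by
    rw [Set.disjoint_left]
    intro w hwI hwM
    obtain ⟨a, ⟨s, hs, rfl⟩, v, hv, rfl⟩ := Submonoid.mem_sup.1 hwM
    obtain ⟨x, hx, y, hy, hxy⟩ := Submodule.mem_sup.1 hwI
    obtain ⟨u, hu, y', hy', huy⟩ : ∃ u : R, u ∉ q ∧ ∃ y' ∈ p'.map (algebraMap R S),
        algebraMap R S u * y = algebraMap R S s * y' := by
      refine Submodule.span_induction (p := fun y _ => ∃ u : R, u ∉ q ∧ ∃ y' ∈ p'.map (algebraMap R S),
        algebraMap R S u * y = algebraMap R S s * y') ?_ ?_ ?_ ?_ hy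
      · rintro _ ⟨a, ha, rfl⟩
        rcases exists_dvd_total hR q a s with ⟨u, r, hu, he⟩ | ⟨u, r, hu, he⟩
        · refine ⟨u, hu, algebraMap R S r, Ideal.mem_map_of_mem _ ?_, by rw [← map_mul, ← map_mul, he, mul_comm]⟩
          have : r * s ∈ p' := he ▸ p'.mul_mem_left u ha
          exact ((inferInstance : p'.IsPrime).mem_or_mem this).resolve_right hs
        · exfalso
          have : u * s ∈ p' := he ▸ p'.mul_mem_left r ha
          exact ((inferInstance : p'.IsPrime).mem_or_mem this).elim (fun hm => hu (h2 hm)) hs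
      · refine ⟨1, fun hm => (inferInstance : q.IsPrime).ne_top ((Ideal.eq_top_iff_one _).2 hm), 0, zero_mem _, ?_⟩
        simp
      · rintro y z _ _ ⟨u, hu, y', hy', he⟩ ⟨u', hu', z', hz', he'⟩
        refine ⟨u * u', fun hm => ((inferInstance : q.IsPrime).mem_or_mem hm).elim hu hu',
          algebraMap R S u' * y' + algebraMap R S u * z', add_mem (Ideal.mul_mem_left _ _ hy') (Ideal.mul_mem_left _ _ hz'), ?_⟩
        rw [map_mul]
        linear_combination algebraMap R S u' * he + algebraMap R S u * he'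
      · rintro b y _ ⟨u, hu, y', hy', he⟩
        refine ⟨u, hu, b • y', Submodule.smul_mem _ _ hy', ?_⟩
        simp only [smul_eq_mul]
        linear_combination b * he
    have hmem : algebraMap R S s * (algebraMap R S u * v - y') ∈ P.asIdeal := by
      have e : algebraMap R S s * (algebraMap R S u * v - y') = algebraMap R S u * x := by
        linear_combination (-algebraMap R S u) * hxy + huy
      rw [e]; exact Ideal.mul_mem_left _ _ hx
    rcases P.isPrime.mem_or_mem hmem with hm | hm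
    · exact hs (h1 hm)
    · have hy'Q : y' ∈ Q.asIdeal := Ideal.map_le_iff_le_comap.2 h2 hy'
      have : algebraMap R S u * v ∈ Q.asIdeal := by
        have := Q.asIdeal.add_mem (h hm) hy'Q
        rwa [sub_add_cancel] at this
      exact (Q.isPrime.mem_or_mem this).elim hu hv
  obtain ⟨J, hJ, hIJ, hJM⟩ := Ideal.exists_le_prime_disjoint I M hdisj
  refine ⟨⟨J, hJ⟩, le_sup_left.trans hIJ, fun z hz => ?_, le_antisymm (fun r hr => ?_) ?_⟩
  · by_contra hzQ
    exact Set.disjoint_left.1 hJM hz ((le_sup_right : Q.asIdeal.primeCompl ≤ M) hzQ)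
  · by_contra hrp
    exact Set.disjoint_left.1 hJM hr ((le_sup_left : p'.primeCompl.map (algebraMap R S) ≤ M) ⟨r, hrp, rfl⟩)
  · exact Ideal.map_le_iff_le_comap.1 (le_sup_right.trans hIJ)

/-- The dimension function. -/
noncomputable def δ (R : Type u) {S : Type u} [CommRing R] [CommRing S] [Algebra R S] [Algebra.FiniteType R S]
    (P : PrimeSpectrum S) : ℤ :=
  (DimFormula.fd R P.asIdeal : ℤ) - ((P.asIdeal.under R).height.toNat : ℤ)

variable (hdim : ringKrullDim R < ⊤)

include hdim in
omit [Algebra R S] [CommRing S] [Algebra.FiniteType R S] [IsDomain R] in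
theorem exists_height_bound : ∃ D : ℕ, ∀ p : Ideal R, p.IsPrime → p.height ≤ D := by
  by_cases he : IsEmpty (PrimeSpectrum R)
  · exact ⟨0, fun p hp => he.elim ⟨p, hp⟩⟩
  rw [not_isEmpty_iff] at he
  obtain ⟨a, ha⟩ := WithBot.ne_bot_iff_exists.1 (Order.krullDim_ne_bot_iff.2 he)
  have hlt : (a : WithBot ℕ∞) < ⊤ := by rw [ha]; exact hdim
  obtain ⟨D, rfl⟩ := ENat.ne_top_iff_exists.1 (WithBot.coe_lt_coe.1 hlt).ne
  refine ⟨D, fun p hp => ?_⟩
  rw [PrimeSpectrum.height_eq_orderHeight ⟨p, hp⟩]
  have := Order.height_le_krullDim (⟨p, hp⟩ : PrimeSpectrum R)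
  rw [← ha] at this
  exact WithBot.coe_le_coe.1 this

include hdim in
omit [Algebra R S] [CommRing S] [Algebra.FiniteType R S] [IsDomain R] in
theorem height_toNat_lt {p q : Ideal R} [p.IsPrime] [q.IsPrime] (h : p < q) : p.height.toNat < q.height.toNat := by
  obtain ⟨D, hD⟩ := exists_height_bound hdim
  have hpt : p.height ≠ ⊤ := ne_top_of_le_ne_top (ENat.natCast_ne_top D) (hD p inferInstance)
  have hqt : q.height ≠ ⊤ := ne_top_of_le_ne_top (ENat.natCast_ne_top D) (hD q inferInstance)
  have h1 : p.height + 1 ≤ q.height := by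
    rw [PrimeSpectrum.height_eq_orderHeight ⟨p, ‹_›⟩, PrimeSpectrum.height_eq_orderHeight ⟨q, ‹_›⟩]
    exact Order.height_add_one_le h
  rw [← ENat.natCast_toNat hpt, ← ENat.natCast_toNat hqt] at h1
  exact_mod_cast h1

include hR hdim in
omit [Algebra R S] [CommRing S] [Algebra.FiniteType R S] in
theorem height_toNat_covBy {p q : PrimeSpectrum R} (h : p ⋖ q) :
    q.asIdeal.height.toNat = p.asIdeal.height.toNat + 1 := by
  obtain ⟨D, hD⟩ := exists_height_bound hdim
  haveI := p.isPrime
  haveI := q.isPrime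
  have hpt : p.asIdeal.height ≠ ⊤ := ne_top_of_le_ne_top (ENat.natCast_ne_top D) (hD _ inferInstance)
  refine le_antisymm ?_ (height_toNat_lt hdim h.lt)
  have h1 : q.asIdeal.height ≤ p.asIdeal.height + 1 := by
    rw [PrimeSpectrum.height_eq_orderHeight q, PrimeSpectrum.height_eq_orderHeight p]
    rw [PrimeSpectrum.height_eq_orderHeight p] at hpt
    obtain ⟨k, hk⟩ := ENat.ne_top_iff_exists.1 hpt
    rw [← hk]
    show Order.height q ≤ ((k + 1 : ℕ) : ℕ∞)
    rw [Order.height_le_coe_iff]
    intro y hy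
    have hyp : y ≤ p := by
      haveI := y.isPrime
      rcases Groth.Agent.ValPrufer.le_total_of_le hR (P := y.asIdeal) (Q := p.asIdeal) hy.le h.lt.le with h' | h'
      · exact h'
      · rcases (show p ≤ y from h').eq_or_lt with e | hlt
        · exact e.ge
        · exact absurd hy (h.2 hlt)
    exact ((Order.height_mono hyp).trans hk.ge).trans_lt (by exact_mod_cast Nat.lt_succ_self k)
  rw [← ENat.natCast_toNat hpt] at h1
  exact ENat.toNat_le_of_le_natCast (by exact_mod_cast h1)

include hR hdim in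
theorem δ_lt {P Q : PrimeSpectrum S} (h : P < Q) : δ R Q < δ R P := by
  haveI := P.isPrime
  haveI := Q.isPrime
  unfold δ
  have hle : P.asIdeal.under R ≤ Q.asIdeal.under R := Ideal.comap_mono h.le
  rcases hle.eq_or_lt with e | hlt
  · have := fd_lt h e
    rw [e]
    omega
  · have h1 := fd_le hR h.le
    have h2 := height_toNat_lt hdim hlt
    omega

include hR hdim in
theorem δ_covBy {P Q : PrimeSpectrum S} (h : P ⋖ Q) : δ R P = δ R Q + 1 := by
  haveI := P.isPrime
  haveI := Q.isPrime
  unfold δ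
  have hle : P.asIdeal.under R ≤ Q.asIdeal.under R := Ideal.comap_mono h.lt.le
  rcases hle.eq_or_lt with e | hlt
  · rw [fd_covBy h e, e]
    push_cast
    ring
  · obtain ⟨z, h1, h2, h3, h4⟩ := exists_fd_ge (R := R) h.lt.le
    have hz : z = Q := by
      rcases h1.eq_or_lt with e | hz1
      · subst e; exact absurd h3 hlt.ne
      · exact h2.eq_or_lt.resolve_right (h.2 hz1)
    subst hz
    have hcov : (⟨P.asIdeal.under R, inferInstance⟩ : PrimeSpectrum R) ⋖ ⟨z.asIdeal.under R, inferInstance⟩ := by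
      refine ⟨hlt, fun p' hp1 hp2 => ?_⟩
      haveI := p'.isPrime
      obtain ⟨w, hw1, hw2, hw3⟩ := exists_between hR h.lt.le p'.asIdeal hp1.le hp2.le
      have hne1 : P ≠ w := fun e => hp1.ne (PrimeSpectrum.ext (e ▸ hw3))
      have hne2 : w ≠ z := fun e => hp2.ne (PrimeSpectrum.ext (e ▸ hw3).symm)
      exact h.2 (lt_of_le_of_ne hw1 hne1) (lt_of_le_of_ne hw2 hne2)
    have h5 := height_toNat_covBy hR hdim hcov
    have h6 := le_antisymm h4 (fd_le hR h.lt.le)
    show (DimFormula.fd R P.asIdeal : ℤ) - ((P.asIdeal.under R).height.toNat : ℤ) = _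
    rw [h6]
    simp only at h5
    rw [h5]
    push_cast
    ring

end Prufer

/-- `fd` as the transcendence degree of the residue domains. -/
theorem fd_eq_toNat_trdeg (P : Ideal S) [P.IsPrime] :
    DimFormula.fd R P = Cardinal.toNat (Algebra.trdeg (R ⧸ P.under R) (S ⧸ P)) := by
  rw [← DimFormula.fd_eq_trdeg R (B := S) (C := S ⧸ P) (P.under R) (Ideal.Quotient.mkₐ R P)
    Ideal.Quotient.mk_surjective P Ideal.mk_ker rfl, Cardinal.toNat_natCast]

/-- The dimension function is bounded by the number of generators. -/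
theorem exists_fd_bound : ∃ N : ℕ, ∀ P : PrimeSpectrum S, DimFormula.fd R P.asIdeal ≤ N := by
  obtain ⟨N, π, hπ⟩ := Algebra.FiniteType.iff_quotient_mvPolynomial''.1 ‹Algebra.FiniteType R S›
  refine ⟨N, fun P => ?_⟩
  haveI := P.isPrime
  let p := P.asIdeal.under R
  haveI : p.IsPrime := Ideal.IsPrime.under R P.asIdeal
  let φ : MvPolynomial (Fin N) (R ⧸ p) →ₐ[R ⧸ p] S ⧸ P.asIdeal :=
    MvPolynomial.aeval fun i => Ideal.Quotient.mk P.asIdeal (π (MvPolynomial.X i))
  have hφ : Function.Surjective φ := fun y => by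
    obtain ⟨y, rfl⟩ := Ideal.Quotient.mk_surjective y
    obtain ⟨G, rfl⟩ := hπ y
    refine ⟨MvPolynomial.map (algebraMap R (R ⧸ p)) G, ?_⟩
    rw [MvPolynomial.aeval_map_algebraMap]
    exact ((MvPolynomial.comp_aeval_apply (MvPolynomial.X : Fin N → MvPolynomial (Fin N) R)
      ((Ideal.Quotient.mkₐ R P.asIdeal).comp π) G).symm).trans (by rw [MvPolynomial.aeval_X_left_apply]; rfl)
  have h1 := trdeg_le_of_surjective φ hφ
  rw [MvPolynomial.trdeg_of_isDomain, Cardinal.mk_fin, Cardinal.lift_natCast] at h1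
  rw [fd_eq_toNat_trdeg]
  exact (Cardinal.toNat_le_toNat h1 Cardinal.natCast_lt_aleph0).trans (Cardinal.toNat_natCast N).le

end Groth.Agent.ValPrufer.DimFun

namespace Groth.Agent.ValPrufer.DimFun

universe v

variable {R S : Type v} [CommRing R] [CommRing S] [Algebra R S] [Algebra.FiniteType R S] [IsDomain R]

theorem δ_apply (P : PrimeSpectrum S) :
    δ R P = (Cardinal.toNat (Algebra.trdeg (R ⧸ P.asIdeal.under R) (S ⧸ P.asIdeal)) : ℤ) -
      ((P.asIdeal.under R).height.toNat : ℤ) := by
  haveI := P.isPrime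
  unfold δ
  rw [fd_eq_toNat_trdeg]

theorem δ_spec (hR : ∀ (p : Ideal R) [p.IsPrime], ValuationRing (Localization.AtPrime p))
    (hdim : ringKrullDim R < ⊤) {P Q : PrimeSpectrum S} (h : P < Q) :
    δ R Q < δ R P ∧ (P ⋖ Q ↔ δ R P = δ R Q + 1) := by
  refine ⟨δ_lt hR hdim h, δ_covBy hR hdim, fun hd => ⟨h, fun z h1 h2 => ?_⟩⟩
  have e1 := δ_lt hR hdim h1
  have e2 := δ_lt hR hdim h2
  omega

end Groth.Agent.ValPrufer.DimFun
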